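import Mathlib
import Cfsg.Agent.H935.Meet.Base_m3
import Cfsg.Agent.H513.WandPSp
import Cfsg.Agent.S0246
import Cfsg.Agent.H233.B3.Row2
import Cfsg.Agent.ClassicalGeometry.SympAutRecog
import Cfsg.Agent.ClassicalGeometry.SympAutExists
import Cfsg.Agent.ClassicalGeometry.SympGamma
import Cfsg.Agent.LieRecognition.FieldSemilinear
import Cfsg.Agent.FastGrp
import Cfsg.Agent.Prune
set_option linter.all false

section
prune_inst 0x7ffdfcfbbffd7ddfdfff7e7ffffddffdfffb7ffffffffdcb7fe0e9ff3fff6b88ed45aba58fead2ff4ff7629410fa7b53fdffdeffea6bdc7ffffd5ff41ffbff8ffdf6b50851f48c340f342fff03f07f8e7f3fffffffffffffffffffffffffffbeffffffffffff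

-- part: H458/M2/Pair
section
set_option linter.all false
open scoped Cfsg.Agent.FastGrp

/-!
# The pair lemma and asymmetric 3-colourings for 2-groups (helper458, task 1920)

* `of_pair` : `H ≤ G` of index prime to `p`, `D = H ∩ x H x⁻¹`, `N ≤ D` normalised by `D` without elements of
  order `p`; every `p`-subgroup `R` of `D` has an element `u ∈ N` with `C_R(u) ≤ Z`.  Then `MeetIn p (G ⧸ Z)`.
* `color` : a 2-group `T` acting on `α` has a colouring by three colours such that the elements preserving it act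
  trivially.
-/

set_option autoImplicit false

namespace Cfsg.Agent.H458.M2

open Subgroup Cfsg.Agent.H68.MeetB

section pair

variable {p : ℕ} [Fact p.Prime] {G : Type*} [Group G] [Finite G]

/-- a `p`-subgroup of a subgroup of index prime to `p` is in a Sylow subgroup of `G` contained in it -/
theorem exists_sylow_le {H R : Subgroup G} (hi : ¬ p ∣ H.index) (hR : IsPGroup p R) (hRH : R ≤ H) :
    ∃ P : Sylow p G, R ≤ P ∧ (P : Subgroup G) ≤ H := by
  have h1 : IsPGroup p (R.subgroupOf H) := hR.comap_of_injective _ H.subtype_injective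
  obtain ⟨S, hS⟩ := h1.exists_le_sylow
  have h2 : IsPGroup p ((S : Subgroup H).map H.subtype) := S.isPGroup'.map _
  have h3 : ¬ p ∣ ((S : Subgroup H).map H.subtype).index := by
    rw [Subgroup.index_map, (MonoidHom.ker_eq_bot_iff _).2 H.subtype_injective, sup_bot_eq, Subgroup.range_subtype]
    intro h4
    rcases (Fact.out : p.Prime).dvd_mul.1 h4 with h5 | h5
    · exact S.not_dvd_index h5
    · exact hi h5
  refine ⟨h2.toSylow h3, fun y hy => ⟨⟨y, hRH hy⟩, hS hy, rfl⟩, ?_⟩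
  rintro _ ⟨y, _, rfl⟩
  exact y.2

/-- from two Sylow subgroups meeting in `Z` -/
theorem of_two_sylow {Z : Subgroup G} [Z.Normal] (hZ : IsPGroup p Z) (P P' : Sylow p G)
    (h : ∀ y, y ∈ P → y ∈ P' → y ∈ Z) : MeetIn p (G ⧸ Z) := by
  obtain ⟨g, hg⟩ := MulAction.exists_smul_eq G P P'
  have hZP : Z ≤ P := by
    obtain ⟨Q, hQ⟩ := hZ.exists_le_sylow
    obtain ⟨c, hc⟩ := MulAction.exists_smul_eq G Q P
    intro z hz
    have h1 : c⁻¹ * z * c ∈ Z := by
      have := (inferInstance : Z.Normal).conj_mem z hz c⁻¹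
      simpa using this
    have h2 : c⁻¹ * z * c ∈ Q := hQ h1
    have h3 : z ∈ c • Q := by
      rw [← SetLike.mem_coe, Sylow.coe_smul]
      refine ⟨c⁻¹ * z * c, h2, ?_⟩
      simp [MulAut.smul_def, MulAut.conj_apply, mul_assoc]
    rwa [hc] at h3
  refine MeetIn.of_one ((P : Subgroup G).map (QuotientGroup.mk' Z)) (P.isPGroup'.map _) ?_ ⟨QuotientGroup.mk' Z g⁻¹, ?_⟩
  · intro h1
    exact P.not_dvd_index (h1.trans (Subgroup.index_map_dvd _ (QuotientGroup.mk'_surjective Z)))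
  · rintro _ ⟨y, hy, rfl⟩ hxy
    rw [← map_inv, ← map_mul, ← map_mul, inv_inv] at hxy
    obtain ⟨y', hy', he⟩ := hxy
    have h1 : y'⁻¹ * (g⁻¹ * y * g) ∈ Z := (QuotientGroup.mk'_eq_mk' Z).1 he |>.elim (by
      rintro z ⟨hz, hz'⟩
      rw [← hz']
      simpa using hz)
    have h2 : g⁻¹ * y * g ∈ P := by
      have h3 : y' * (y'⁻¹ * (g⁻¹ * y * g)) ∈ P := mul_mem hy' (hZP h1)
      rwa [mul_inv_cancel_left] at h3
    have h3 : y ∈ P' := by
      rw [← hg, ← SetLike.mem_coe, Sylow.coe_smul]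
      refine ⟨g⁻¹ * y * g, h2, ?_⟩
      simp [MulAut.smul_def, MulAut.conj_apply, mul_assoc]
    exact (QuotientGroup.eq_one_iff y).2 (h y hy h3)

/-- **The pair lemma.** -/
theorem of_pair {Z : Subgroup G} [Z.Normal] (hZ : IsPGroup p Z) {H N : Subgroup G} (hi : ¬ p ∣ H.index) (x : G)
    (hN : ∀ n ∈ N, n ∈ H ∧ x⁻¹ * n * x ∈ H)
    (hN1 : ∀ n ∈ N, ∀ y ∈ H, x⁻¹ * y * x ∈ H → y * n * y⁻¹ ∈ N)
    (hN2 : ∀ n ∈ N, ∀ k, n ^ p ^ k = 1 → n = 1)
    (hu : ∀ R : Subgroup G, IsPGroup p R → (∀ y ∈ R, y ∈ H ∧ x⁻¹ * y * x ∈ H) →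
      ∃ u ∈ N, ∀ y ∈ R, u * y = y * u → y ∈ Z) : MeetIn p (G ⧸ Z) := by
  let H' : Subgroup G := H.comap (MulAut.conj x⁻¹).toMonoidHom
  have hH' : ∀ y, y ∈ H' ↔ x⁻¹ * y * x ∈ H := by
    intro y
    rw [mem_comap]
    change x⁻¹ * y * x⁻¹⁻¹ ∈ H ↔ _
    rw [inv_inv]
  have hi' : ¬ p ∣ H'.index := by
    rw [Subgroup.index_comap_of_surjective _ (MulAut.conj x⁻¹).surjective]
    exact hi
  let D : Subgroup G := H ⊓ H'
  have hD : ∀ y, y ∈ D ↔ y ∈ H ∧ x⁻¹ * y * x ∈ H := by
    intro y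
    rw [mem_inf, hH']
  obtain ⟨S⟩ : Nonempty (Sylow p D) := inferInstance
  let R : Subgroup G := (S : Subgroup D).map D.subtype
  have hR : IsPGroup p R := S.isPGroup'.map _
  have hRD : R ≤ D := by
    rintro _ ⟨y, _, rfl⟩
    exact y.2
  -- maximality
  have hmax : ∀ Q : Subgroup G, IsPGroup p Q → R ≤ Q → ∀ y ∈ Q, y ∈ D → y ∈ R := by
    intro Q hQ hRQ y hy hyD
    have h1 : IsPGroup p (Q.subgroupOf D) := hQ.comap_of_injective _ D.subtype_injective
    have h2 : (S : Subgroup D) ≤ Q.subgroupOf D := by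
      intro s hs
      exact hRQ ⟨s, hs, rfl⟩
    have h3 := S.is_maximal' h1 h2
    have h4 : (⟨y, hyD⟩ : D) ∈ Q.subgroupOf D := hy
    rw [h3] at h4
    exact ⟨_, h4, rfl⟩
  obtain ⟨u, huN, huR⟩ := hu R hR fun y hy => (hD y).1 (hRD hy)
  have huD : u ∈ D := (hD u).2 (hN u huN)
  obtain ⟨P, hP1, hP2⟩ := exists_sylow_le hi hR (hRD.trans inf_le_left)
  let R' : Subgroup G := R.map (MulAut.conj u).toMonoidHom
  have hR' : IsPGroup p R' := hR.map _
  have hR'D : R' ≤ H' := by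
    rintro _ ⟨y, hy, rfl⟩
    change u * y * u⁻¹ ∈ H'
    exact H'.mul_mem (H'.mul_mem (mem_inf.1 huD).2 (mem_inf.1 (hRD hy)).2) (H'.inv_mem (mem_inf.1 huD).2)
  obtain ⟨P', hP'1, hP'2⟩ := exists_sylow_le hi' hR' hR'D
  refine of_two_sylow hZ P P' fun y hy hy' => ?_
  have hyD : y ∈ D := mem_inf.2 ⟨hP2 hy, hP'2 hy'⟩
  have h1 : y ∈ R := hmax P P.isPGroup' hP1 y hy hyD
  have h2 : u⁻¹ * y * u ∈ R := by
    refine hmax ((P' : Subgroup G).comap (MulAut.conj u).toMonoidHom)
      (P'.isPGroup'.comap_of_injective _ (MulAut.conj u).injective) ?_ _ ?_ ?_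
    · intro r hr
      rw [mem_comap]
      exact hP'1 ⟨r, hr, rfl⟩
    · rw [mem_comap]
      change u * (u⁻¹ * y * u) * u⁻¹ ∈ (P' : Subgroup G)
      have : u * (u⁻¹ * y * u) * u⁻¹ = y := by group
      rw [this]
      exact hy'
    · exact D.mul_mem (D.mul_mem (D.inv_mem huD) hyD) huD
  have h3 : y⁻¹ * u⁻¹ * y * u ∈ N := by
    have h4 := hN1 u⁻¹ (N.inv_mem huN) y⁻¹ (H.inv_mem ((hD y).1 hyD).1) (by
      have h5 := H.inv_mem ((hD y).1 hyD).2
      have h6 : (x⁻¹ * y * x)⁻¹ = x⁻¹ * y⁻¹ * x := by group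
      rwa [h6] at h5)
    rw [inv_inv] at h4
    exact N.mul_mem h4 huN
  have h4 : y⁻¹ * u⁻¹ * y * u ∈ R := by
    have h5 := R.mul_mem (R.inv_mem h1) h2
    have h6 : y⁻¹ * (u⁻¹ * y * u) = y⁻¹ * u⁻¹ * y * u := by group
    rwa [h6] at h5
  obtain ⟨k, hk⟩ := hR ⟨_, h4⟩
  have h5 : y⁻¹ * u⁻¹ * y * u = 1 := hN2 _ h3 k (congrArg Subtype.val hk)
  refine huR y h1 ?_
  have h6 : (u * y) * (y⁻¹ * u⁻¹ * y * u) = y * u := by group
  rw [← h6, h5, mul_one]

end pair

section color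

/-- transitive case, three inequivalent asymmetric colourings -/
theorem color_orbit {α : Type*} (n : ℕ) : ∀ (T : Type) [Group T] [MulAction T α], Nat.card T = 2 ^ n → ∀ a : α,
    ∃ f : Fin 3 → α → Fin 3, ∀ i j, ∀ t : T, (∀ ω ∈ MulAction.orbit T a, f i (t • ω) = f j ω) →
      i = j ∧ ∀ ω ∈ MulAction.orbit T a, t • ω = ω := by
  classical
  induction n with
  | zero =>
    intro T _ _ hT a
    have h1 : ∀ t : T, t = 1 := by
      rw [pow_zero, Nat.card_eq_one_iff_unique] at hT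
      have := hT.1
      exact fun t => Subsingleton.elim _ _
    refine ⟨fun i _ => i, fun i j t h => ⟨h a (MulAction.mem_orbit_self a), fun ω _ => ?_⟩⟩
    rw [h1 t, one_smul]
  | succ n ih =>
    intro T _ _ hT a
    have hfin : Finite T := Nat.finite_of_card_ne_zero (by rw [hT]; positivity)
    by_cases hfix : ∀ t : T, t • a = a
    · refine ⟨fun i _ => i, fun i j t h => ⟨h a (MulAction.mem_orbit_self a), fun ω hω => ?_⟩⟩
      obtain ⟨s, rfl⟩ := hω
      change t • s • a = s • a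
      rw [hfix s, hfix t]
    · have h2 : Fact (Nat.Prime 2) := ⟨Nat.prime_two⟩
      obtain ⟨M, hM1, hM2⟩ : ∃ M : Subgroup T, Nat.card M = 2 ^ n ∧ MulAction.stabilizer T a ≤ M := by
        have hp : IsPGroup 2 (MulAction.stabilizer T a) := (IsPGroup.of_card hT).to_subgroup _
        obtain ⟨k, hk⟩ := hp.exists_card_eq
        have hle : k ≤ n := by
          by_contra hcon
          have h3 : Nat.card (MulAction.stabilizer T a) ∣ Nat.card T := Subgroup.card_subgroup_dvd_card _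
          rw [hk, hT, Nat.pow_dvd_pow_iff_le_right (by norm_num)] at h3
          have h4 : k = n + 1 := by omega
          rw [h4, ← hT] at hk
          have h5 := Subgroup.eq_top_of_card_eq _ hk
          apply hfix
          intro t
          have : t ∈ MulAction.stabilizer T a := by rw [h5]; exact Subgroup.mem_top t
          exact this
        obtain ⟨K, hK1, hK2⟩ := Sylow.exists_subgroup_card_pow_prime_le 2 (n := k) (m := n)
          (by rw [hT]; exact pow_dvd_pow 2 (Nat.le_succ n)) (MulAction.stabilizer T a) hk hle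
        exact ⟨K, hK1, hK2⟩
      have hidx : M.index = 2 := by
        have h3 := M.card_mul_index
        rw [hM1, hT, pow_succ] at h3
        exact Nat.eq_of_mul_eq_mul_left (by positivity) h3
      have hmul : ∀ s t : T, s * t ∈ M ↔ (s ∈ M ↔ t ∈ M) := fun s t =>
        Subgroup.mul_mem_iff_of_index_two hidx
      obtain ⟨g, hg⟩ : ∃ g : T, g ∉ M := by
        by_contra hcon
        push Not at hcon
        have h3 : M = ⊤ := by
          rw [eq_top_iff]
          exact fun t _ => hcon t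
        rw [h3, Subgroup.index_top] at hidx
        omega
      have hgi : g⁻¹ ∉ M := fun h => hg (by simpa using M.inv_mem h)
      obtain ⟨f, hf⟩ := ih M hM1 a
      -- points of the two orbits
      have hsep : ∀ t : T, t • a ∈ MulAction.orbit M a → t ∈ M := by
        rintro t ⟨s, hs⟩
        have hs' : (s : T) • a = t • a := hs
        have h3 : t⁻¹ * (s : T) ∈ MulAction.stabilizer T a := by
          rw [MulAction.mem_stabilizer_iff, mul_smul, hs', inv_smul_smul]
        have h4 := M.mul_mem (hM2 h3) (M.inv_mem s.2)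
        rw [mul_inv_cancel_right] at h4
        simpa using M.inv_mem h4
      have hin : ∀ t : T, t ∈ M → t • a ∈ MulAction.orbit M a := fun t ht => ⟨⟨t, ht⟩, rfl⟩
      let c : Fin 3 → α → Fin 3 := fun k ω => if ω ∈ MulAction.orbit M a then f k ω else f (k + 1) (g⁻¹ • ω)
      have hc1 : ∀ k, ∀ t ∈ M, c k (t • a) = f k (t • a) := fun k t ht => if_pos (hin t ht)
      have hc2 : ∀ k, ∀ t, t ∉ M → c k (t • a) = f (k + 1) (g⁻¹ • t • a) := fun k t ht =>
        if_neg fun h => ht (hsep t h)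
      refine ⟨c, fun k l t h => ?_⟩
      by_cases ht : t ∈ M
      · have h3 := hf k l ⟨t, ht⟩ (by
          rintro _ ⟨s, rfl⟩
          change f k (t • (s : T) • a) = f l ((s : T) • a)
          rw [← hc1 l s s.2, ← h _ ⟨(s : T), rfl⟩, ← mul_smul]
          exact (hc1 k _ (M.mul_mem ht s.2)).symm)
        have h4 := hf (k + 1) (l + 1) ⟨g⁻¹ * t * g, by
            rw [hmul, hmul]
            simp [ht, hg, hgi]⟩ (by
          rintro _ ⟨s, rfl⟩
          change f (k + 1) ((g⁻¹ * t * g) • (s : T) • a) = f (l + 1) ((s : T) • a)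
          have h5 := h ((g * s) • a) ⟨g * s, rfl⟩
          have h6 : g * s ∉ M := by
            rw [hmul]
            simp only [hg, s.2, iff_true, not_false_iff]
          have h7 : t * (g * s) ∉ M := by
            rw [hmul]
            simp only [ht, h6, iff_false, not_true_eq_false, not_false_iff]
          rw [hc2 l _ h6, ← mul_smul, hc2 k _ h7] at h5
          rw [← mul_smul] at h5 ⊢
          rw [← mul_smul] at h5
          have e1 : g⁻¹ * (t * (g * (s : T))) = g⁻¹ * t * g * s := by group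
          have e2 : g⁻¹ * (g * (s : T)) = s := by group
          rw [e1, e2] at h5
          exact h5)
        refine ⟨h3.1, ?_⟩
        rintro _ ⟨s, rfl⟩
        change t • s • a = s • a
        by_cases hs : s ∈ M
        · exact h3.2 _ (hin s hs)
        · have h5 : g⁻¹ * s ∈ M := by
            rw [hmul]
            simp only [hgi, hs]
          have h6 := h4.2 _ (hin _ h5)
          change (g⁻¹ * t * g) • (g⁻¹ * s) • a = (g⁻¹ * s) • a at h6
          rw [← mul_smul] at h6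
          have e1 : g⁻¹ * t * g * (g⁻¹ * s) = g⁻¹ * (t * s) := by group
          rw [e1, mul_smul, mul_smul g⁻¹ s] at h6
          have h7 := MulAction.injective g⁻¹ h6
          rw [← mul_smul]
          exact h7
      · exfalso
        have ht1 : g⁻¹ * t ∈ M := by
          rw [hmul]
          simp only [hgi, ht]
        have ht2 : t * g ∈ M := by
          rw [hmul]
          simp only [hg, ht]
        have h3 := hf (k + 1) l ⟨g⁻¹ * t, ht1⟩ (by
          rintro _ ⟨s, rfl⟩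
          change f (k + 1) ((g⁻¹ * t) • (s : T) • a) = f l ((s : T) • a)
          have h5 := h ((s : T) • a) ⟨(s : T), rfl⟩
          have h6 : t * s ∉ M := by
            rw [hmul]
            simp only [ht, s.2, iff_true, not_false_iff]
          rw [hc1 l _ s.2, ← mul_smul, hc2 k _ h6] at h5
          rw [← h5, ← mul_smul, ← mul_smul, mul_assoc])
        have h4 := hf k (l + 1) ⟨t * g, ht2⟩ (by
          rintro _ ⟨s, rfl⟩
          change f k ((t * g) • (s : T) • a) = f (l + 1) ((s : T) • a)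
          have h5 := h ((g * s) • a) ⟨g * s, rfl⟩
          have h6 : g * s ∉ M := by
            rw [hmul]
            simp only [hg, s.2, iff_true, not_false_iff]
          have h7 : t * (g * s) ∈ M := by
            rw [hmul]
            simp only [ht, h6]
          rw [hc2 l _ h6, ← mul_smul, hc1 k _ h7, ← mul_smul] at h5
          have e2 : g⁻¹ * (g * (s : T)) = s := by group
          rw [e2] at h5
          rw [← h5, ← mul_smul, mul_assoc])
        have h5 : k + 1 + 1 = k := by rw [h3.1, ← h4.1]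
        revert h5
        clear * -
        revert k
        decide

/-- **Asymmetric 3-colourings.** -/
theorem color {α : Type*} (T : Type) [Group T] [MulAction T α] [Finite T] (hT : IsPGroup 2 T) :
    ∃ c : α → Fin 3, ∀ t : T, (∀ ω, c (t • ω) = c ω) → ∀ ω : α, t • ω = ω := by
  classical
  have h2 : Fact (Nat.Prime 2) := ⟨Nat.prime_two⟩
  obtain ⟨n, hn⟩ := hT.exists_card_eq
  choose f hf using fun a : α => color_orbit n T hn a
  let r : α → α := fun ω => Quotient.out (Quotient.mk (MulAction.orbitRel T α) ω)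
  have hr1 : ∀ ω, ω ∈ MulAction.orbit T (r ω) := by
    intro ω
    have h1 : Quotient.mk (MulAction.orbitRel T α) (r ω) = Quotient.mk (MulAction.orbitRel T α) ω :=
      Quotient.out_eq _
    have h3 := Quotient.exact h1.symm
    exact h3
  have hr2 : ∀ ω ω', ω ∈ MulAction.orbit T ω' → r ω = r ω' := by
    intro ω ω' h
    have h1 : Quotient.mk (MulAction.orbitRel T α) ω = Quotient.mk (MulAction.orbitRel T α) ω' :=
      Quotient.sound h
    change Quotient.out _ = Quotient.out _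
    rw [h1]
  refine ⟨fun ω => f (r ω) 0 ω, fun t ht ω => ?_⟩
  refine (hf (r ω) 0 0 t ?_).2 ω (hr1 ω)
  intro ω' hω'
  have h1 := ht ω'
  have h3 : r ω' = r ω := by
    have h4 := hr2 ω' (r ω) hω'
    rw [h4, ← hr2 ω (r ω) (hr1 ω)]
  have h4 : r (t • ω') = r ω' := hr2 _ _ ⟨t, rfl⟩
  simp only [h4] at h1
  rw [h3] at h1
  exact h1

end color

end Cfsg.Agent.H458.M2
end

-- part: H458/M2/Sp
section
prune_inst 0x20104400202202000018000000000000080000000000000040200800010060288540200112100100080000404008002002000000420000000a00000000050020800040000300010ca40009800000000000000000000000000000000000000000000000000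
set_option linter.all false
open scoped Cfsg.Agent.FastGrp

/-!
# `MeetIn 2 (PSp m F)` for `|F|` odd, `m ≥ 2` (helper458, task 1920, after helper208 and helper779)

`H = SL₂(q) ≀ S_m`, `x` the transvection with centre `e_1 + ... + e_m`; `H ∩ x H x⁻¹` consists of elements with upper
triangular blocks `(a_j, a_j⁻¹)`, `a_j a_k = 1` for `j ≠ k`.
-/

set_option autoImplicit false
set_option linter.unusedSectionVars false

namespace Cfsg.Agent.H458.M2Sp

open Matrix Equiv Cfsg.Agent.H636.SympWreath Cfsg.Agent.H458.M2 Cfsg.Agent.H513.WandPSp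

section lin

variable {F : Type*} [Field F] {m : ℕ}

/-- the all-ones matrix -/
def J1 (m : ℕ) (F : Type*) [Field F] : Matrix (Fin m) (Fin m) F := Matrix.of fun _ _ => 1

theorem mono_mul_J (σ : Perm (Fin m)) (a : Fin m → F) (i k : Fin m) : (mono σ a * J1 m F) i k = a (σ.symm i) := by
  rw [Matrix.mul_apply, Finset.sum_eq_single (σ.symm i)]
  · rw [mono_apply, if_pos (σ.apply_symm_apply i).symm]
    exact mul_one _
  · intro j _ hj
    rw [mono_apply, if_neg (fun h => hj (by rw [h, σ.symm_apply_apply])), zero_mul]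
  · simp only [_root_.Finset.mem_univ, _root_.not_true_eq_false, _root_.mul_eq_zero, _root_.IsEmpty.forall_iff]

theorem J_mul_mono (τ : Perm (Fin m)) (c : Fin m → F) (i k : Fin m) : (J1 m F * mono τ c) i k = c k := by
  rw [Matrix.mul_apply, Finset.sum_eq_single (τ k)]
  · rw [mono_apply, if_pos rfl]
    exact one_mul _
  · intro j _ hj
    rw [mono_apply, if_neg hj, mul_zero]
  · simp only [_root_.Finset.mem_univ, _root_.not_true_eq_false, _root_.mul_eq_zero, _root_.IsEmpty.forall_iff]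

/-- the transvection -/
def tv (m : ℕ) (F : Type*) [Field F] : Matrix.symplecticGroup (Fin m) F :=
  ⟨fromBlocks 1 (J1 m F) 0 1, by
    rw [SymplecticGroup.fromBlocks_mem_iff]
    have h : (J1 m F)ᵀ = J1 m F := by
      ext i j
      rfl
    refine ⟨by simp, by simp [h], by simp⟩⟩

variable {σ τ : Perm (Fin m)} {A B : Fin m → _root_.Matrix.SpecialLinearGroup (Fin 2) F}

theorem det_eq (t : _root_.Matrix.SpecialLinearGroup (Fin 2) F) :
    (t : Matrix (Fin 2) (Fin 2) F) 0 0 * (t : Matrix (Fin 2) (Fin 2) F) 1 1 -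
      (t : Matrix (Fin 2) (Fin 2) F) 0 1 * (t : Matrix (Fin 2) (Fin 2) F) 1 0 = 1 := by
  have h := t.det_coe
  rwa [Matrix.det_fin_two] at h

/-- **The intersection `H ∩ x H x⁻¹`.** -/
theorem key (hm : 2 ≤ m) (h : blk σ A * tv m F = tv m F * blk τ B) :
    (∀ k, (A k : Matrix (Fin 2) (Fin 2) F) 1 0 = 0) ∧
      ∀ j k, j ≠ k → (A j : Matrix (Fin 2) (Fin 2) F) 0 0 = (A k : Matrix (Fin 2) (Fin 2) F) 1 1 := by
  have h0 := congrArg Subtype.val h
  change fromBlocks _ _ _ _ * fromBlocks 1 (J1 m F) 0 1 = fromBlocks 1 (J1 m F) 0 1 * fromBlocks _ _ _ _ at h0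
  rw [Matrix.fromBlocks_multiply, Matrix.fromBlocks_multiply, Matrix.fromBlocks_inj] at h0
  simp only [mul_one, mul_zero, add_zero, zero_mul, one_mul, zero_add] at h0
  obtain ⟨h11, h12, h21, h22⟩ := h0
  have e11 : ∀ i k, (if i = σ k then (A k : Matrix (Fin 2) (Fin 2) F) 0 0 else 0) =
      (if i = τ k then (B k : Matrix (Fin 2) (Fin 2) F) 0 0 else 0) + (B k : Matrix (Fin 2) (Fin 2) F) 1 0 := by
    intro i k
    have h1 := congrFun (congrFun h11 i) k
    rwa [Matrix.add_apply, J_mul_mono, mono_apply, mono_apply] at h1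
  have e12 : ∀ i k, (A (σ.symm i) : Matrix (Fin 2) (Fin 2) F) 0 0 +
      (if i = σ k then (A k : Matrix (Fin 2) (Fin 2) F) 0 1 else 0) =
      (if i = τ k then (B k : Matrix (Fin 2) (Fin 2) F) 0 1 else 0) + (B k : Matrix (Fin 2) (Fin 2) F) 1 1 := by
    intro i k
    have h1 := congrFun (congrFun h12 i) k
    rwa [Matrix.add_apply, Matrix.add_apply, J_mul_mono, mono_mul_J, mono_apply, mono_apply] at h1
  have e21 : ∀ i k, (if i = σ k then (A k : Matrix (Fin 2) (Fin 2) F) 1 0 else 0) =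
      (if i = τ k then (B k : Matrix (Fin 2) (Fin 2) F) 1 0 else 0) := by
    intro i k
    have h1 := congrFun (congrFun h21 i) k
    rwa [mono_apply, mono_apply] at h1
  have e22 : ∀ i k, (A (σ.symm i) : Matrix (Fin 2) (Fin 2) F) 1 0 +
      (if i = σ k then (A k : Matrix (Fin 2) (Fin 2) F) 1 1 else 0) =
      (if i = τ k then (B k : Matrix (Fin 2) (Fin 2) F) 1 1 else 0) := by
    intro i k
    have h1 := congrFun (congrFun h22 i) k
    rwa [Matrix.add_apply, mono_mul_J, mono_apply, mono_apply] at h1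
  have hne : ∀ k : Fin m, ∃ i, i ≠ k := by
    intro k
    have : Nontrivial (Fin m) := Fin.nontrivial_iff_two_le.2 hm
    exact exists_ne k
  have hc' : ∀ k, (B k : Matrix (Fin 2) (Fin 2) F) 1 0 = 0 := by
    intro k
    by_contra hcon
    have h1 := e21 (τ k) k
    rw [if_pos rfl] at h1
    have h2 : τ k = σ k := by
      by_contra h2
      rw [if_neg h2] at h1
      exact hcon h1.symm
    obtain ⟨i, hi⟩ := hne (σ k)
    have h3 := e11 i k
    rw [if_neg hi, h2, if_neg hi, zero_add] at h3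
    exact hcon h3.symm
  have hc : ∀ k, (A k : Matrix (Fin 2) (Fin 2) F) 1 0 = 0 := by
    intro k
    have h1 := e21 (σ k) k
    rw [if_pos rfl, hc' k] at h1
    rw [h1]
    split_ifs <;> rfl
  have ha : ∀ k, (A k : Matrix (Fin 2) (Fin 2) F) 0 0 ≠ 0 := by
    intro k h1
    have h2 := det_eq (A k)
    rw [hc k, h1] at h2
    simp at h2
  have hστ : ∀ k, σ k = τ k := by
    intro k
    by_contra h1
    have h2 := e11 (σ k) k
    rw [if_pos rfl, if_neg h1, hc' k, zero_add] at h2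
    exact ha k h2
  have hd : ∀ k, (B k : Matrix (Fin 2) (Fin 2) F) 1 1 = (A k : Matrix (Fin 2) (Fin 2) F) 1 1 := by
    intro k
    have h1 := e22 (σ k) k
    rw [if_pos rfl, if_pos (hστ k), σ.symm_apply_apply, hc k, zero_add] at h1
    exact h1.symm
  refine ⟨hc, fun j k hjk => ?_⟩
  have h1 := e12 (σ j) k
  have h2 : σ j ≠ σ k := fun h => hjk (σ.injective h)
  rw [σ.symm_apply_apply, if_neg h2, if_neg (by rw [← hστ k]; exact h2), add_zero, zero_add, hd k] at h1
  exact h1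

/-- upper unipotent -/
def uu (t : F) : _root_.Matrix.SpecialLinearGroup (Fin 2) F := ⟨!![1, t; 0, 1], by simp [Matrix.det_fin_two]⟩

theorem uu_mul (s t : F) : uu s * uu t = uu (s + t) := by
  apply Subtype.ext
  change !![1, s; 0, 1] * !![1, t; 0, 1] = !![1, s + t; 0, 1]
  ext i j
  (revert i j; simp only [Matrix.mul_apply, Fin.sum_univ_two, add_comm, _root_.Fin.forall_fin_succ, _root_.Matrix.of_apply, _root_.Matrix.cons_val', _root_.Matrix.cons_val_fin_one, Fin.isValue, _root_.Matrix.cons_val_zero, _root_.Matrix.cons_val_one, _root_.mul_one, _root_.MulZeroClass.mul_zero, _root_.zero_add, _root_.Matrix.cons_val_succ, _root_.forall_const, _root_.true_and, _root_.one_mul, _root_.MulZeroClass.zero_mul, _root_.implies_true, _root_.and_self])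

theorem uu_zero : uu (0 : F) = 1 := by
  apply Subtype.ext
  change !![1, (0 : F); 0, 1] = 1
  ext i j
  (revert i j; simp only [_root_.Fin.forall_fin_succ, _root_.Matrix.of_apply, _root_.Matrix.cons_val', _root_.Matrix.cons_val_fin_one, Fin.isValue, _root_.Matrix.cons_val_zero, _root_.Matrix.cons_val_succ, _root_.IsEmpty.forall_iff, _root_.and_true, _root_.Matrix.one_apply_eq, Nat.reduceAdd, _root_.Fin.succ_zero_eq_one, _root_.ne_eq, _root_.zero_ne_one, _root_.not_false_eq_true, _root_.Matrix.one_apply_ne, _root_.and_self, _root_.Fin.succ_ne_zero, _root_.true_and])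

theorem uu_fix (t : F) : (uu t : Matrix (Fin 2) (Fin 2) F) *ᵥ ![1, 0] = ![1, 0] := by
  change !![1, t; 0, 1] *ᵥ ![1, 0] = ![1, 0]
  funext i
  (revert i; simp only [Matrix.mulVec, dotProduct, Fin.sum_univ_two, _root_.Fin.forall_fin_succ, _root_.Matrix.of_apply, _root_.Matrix.cons_val', _root_.Matrix.cons_val_fin_one, Fin.isValue, _root_.Matrix.cons_val_zero, _root_.mul_one, _root_.Matrix.cons_val_one, _root_.MulZeroClass.mul_zero, _root_.add_zero, _root_.Nat.succ_eq_add_one, Nat.reduceAdd, _root_.Matrix.cons_val_succ, _root_.implies_true, _root_.and_self])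

/-- the normal subgroup -/
def NN (m : ℕ) (F : Type*) [Field F] : Subgroup (Matrix.symplecticGroup (Fin m) F) where
  carrier := {x | ∃ t : Fin m → F, x = blk 1 fun j => uu (t j)}
  one_mem' := ⟨0, by
    rw [← blk_one]
    congr 1
    funext j
    exact uu_zero.symm⟩
  mul_mem' := by
    rintro _ _ ⟨s, rfl⟩ ⟨t, rfl⟩
    refine ⟨s + t, ?_⟩
    rw [blk_mul, one_mul]
    congr 1
    funext j
    exact uu_mul _ _
  inv_mem' := by
    rintro _ ⟨s, rfl⟩
    refine ⟨-s, ?_⟩
    rw [inv_eq_iff_mul_eq_one, blk_mul, one_mul, ← blk_one]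
    congr 1
    funext j
    change uu (s j) * uu (-s j) = 1
    rw [uu_mul, add_neg_cancel, uu_zero]

theorem tv_comm (t : Fin m → F) : (blk 1 fun j => uu (t j)) * tv m F = tv m F * blk 1 fun j => uu (t j) := by
  apply Subtype.ext
  change fromBlocks _ _ _ _ * fromBlocks 1 (J1 m F) 0 1 = fromBlocks 1 (J1 m F) 0 1 * fromBlocks _ _ _ _
  have h1 : (mono 1 fun j => (uu (t j) : Matrix (Fin 2) (Fin 2) F) 0 0) = (1 : Matrix (Fin m) (Fin m) F) := mono_one
  have h2 : (mono 1 fun j => (uu (t j) : Matrix (Fin 2) (Fin 2) F) 1 0) = (0 : Matrix (Fin m) (Fin m) F) :=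
    mono_zero 1
  have h3 : (mono 1 fun j => (uu (t j) : Matrix (Fin 2) (Fin 2) F) 1 1) = (1 : Matrix (Fin m) (Fin m) F) := mono_one
  rw [h1, h2, h3, Matrix.fromBlocks_multiply, Matrix.fromBlocks_multiply]
  simp only [mul_one, mul_zero, add_zero, zero_mul, one_mul, zero_add]
  rw [add_comm]

/-- `H = SL₂(F) ≀ S_m` -/
def HH (m : ℕ) (F : Type*) [Field F] : Subgroup (Matrix.symplecticGroup (Fin m) F) := wr ⊤ ⊤

theorem mem_HH {y : Matrix.symplecticGroup (Fin m) F} :
    y ∈ HH m F ↔ ∃ (σ : Perm (Fin m)) (A : Fin m → _root_.Matrix.SpecialLinearGroup (Fin 2) F), y = blk σ A :=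
  ⟨fun ⟨σ, _, A, _, h⟩ => ⟨σ, A, h⟩, fun ⟨σ, A, h⟩ => ⟨σ, trivial, A, fun _ => trivial, h⟩⟩

theorem key' (hm : 2 ≤ m) (h : (tv m F)⁻¹ * blk σ A * tv m F ∈ HH m F) :
    (∀ k, (A k : Matrix (Fin 2) (Fin 2) F) 1 0 = 0) ∧
      ∀ j k, j ≠ k → (A j : Matrix (Fin 2) (Fin 2) F) 0 0 = (A k : Matrix (Fin 2) (Fin 2) F) 1 1 := by
  obtain ⟨τ, B, hB⟩ := mem_HH.1 h
  refine key (σ := σ) (τ := τ) (A := A) (B := B) hm ?_
  rw [← hB]
  group

theorem hN (n : Matrix.symplecticGroup (Fin m) F) (hn : n ∈ NN m F) :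
    n ∈ HH m F ∧ (tv m F)⁻¹ * n * tv m F ∈ HH m F := by
  obtain ⟨t, rfl⟩ := hn
  have h1 : (blk 1 fun j => uu (t j)) ∈ HH m F := mem_HH.2 ⟨_, _, rfl⟩
  refine ⟨h1, ?_⟩
  rw [mul_assoc, tv_comm, inv_mul_cancel_left]
  exact h1

theorem hN1 (hm : 2 ≤ m) (n : Matrix.symplecticGroup (Fin m) F) (hn : n ∈ NN m F)
    (y : Matrix.symplecticGroup (Fin m) F) (hy : y ∈ HH m F) (hy' : (tv m F)⁻¹ * y * tv m F ∈ HH m F) :
    y * n * y⁻¹ ∈ NN m F := by
  obtain ⟨t, rfl⟩ := hn
  obtain ⟨σ, A, rfl⟩ := mem_HH.1 hy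
  obtain ⟨h1, -⟩ := key' hm hy'
  refine ⟨fun i => (A (σ.symm i) : Matrix (Fin 2) (Fin 2) F) 0 0 ^ 2 * t (σ.symm i), ?_⟩
  rw [mul_inv_eq_iff_eq_mul, blk_mul, blk_mul, mul_one, one_mul]
  congr 1
  funext j
  change A j * uu (t j) = uu ((A (σ.symm (σ j)) : Matrix (Fin 2) (Fin 2) F) 0 0 ^ 2 * t (σ.symm (σ j))) * A j
  rw [σ.symm_apply_apply]
  apply Subtype.ext
  have hdet := det_eq (A j)
  rw [h1 j, mul_zero, sub_zero] at hdet
  change (A j : Matrix (Fin 2) (Fin 2) F) * !![1, t j; 0, 1] =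
    !![1, (A j : Matrix (Fin 2) (Fin 2) F) 0 0 ^ 2 * t j; 0, 1] * (A j : Matrix (Fin 2) (Fin 2) F)
  ext i k
  (revert i k; simp only [Matrix.mul_apply, Fin.sum_univ_two, h1 j, _root_.Fin.forall_fin_succ, _root_.Matrix.of_apply, _root_.Matrix.cons_val', _root_.Matrix.cons_val_fin_one, Fin.isValue, _root_.Matrix.cons_val_zero, _root_.Matrix.cons_val_one, _root_.mul_one, _root_.MulZeroClass.mul_zero, _root_.add_zero, _root_.Matrix.cons_val_succ, _root_.Fin.succ_zero_eq_one, _root_.IsEmpty.forall_iff, _root_.one_mul, _root_.MulZeroClass.zero_mul, _root_.zero_add, _root_.and_true, _root_.true_and]) <;> (repeat' with_reducible apply And.intro)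
  linear_combination (-(A j : Matrix (Fin 2) (Fin 2) F) 0 0 * t j) * hdet

theorem e1_ne : (![1, 0] : Fin 2 → F) ≠ 0 := fun h => one_ne_zero (α := F) (congrFun h 0)

theorem blk_pow (A : Fin m → _root_.Matrix.SpecialLinearGroup (Fin 2) F) (r : ℕ) : blk 1 A ^ r = blk 1 (A ^ r) :=
  (map_pow (Phi (F := F) (n := m)) A r).symm

theorem blk_pow' (σ : Perm (Fin m)) (A : Fin m → _root_.Matrix.SpecialLinearGroup (Fin 2) F) (r : ℕ) :
    ∃ B, blk σ A ^ r = blk (σ ^ r) B := by
  induction r with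
  | zero => exact ⟨1, by rw [pow_zero, pow_zero, blk_one]⟩
  | succ r ih =>
    obtain ⟨B, hB⟩ := ih
    exact ⟨_, by rw [pow_succ, hB, blk_mul, ← pow_succ]⟩

theorem hN2 (h2 : (2 : F) ≠ 0) (n : Matrix.symplecticGroup (Fin m) F) (hn : n ∈ NN m F) (k : ℕ)
    (hk : n ^ 2 ^ k = 1) : n = 1 := by
  obtain ⟨t, rfl⟩ := hn
  rw [blk_pow, ← blk_one] at hk
  obtain ⟨-, hk'⟩ := blk_injective hk
  rw [← blk_one]
  congr 1
  funext j
  by_contra hcon
  exact e1_ne (two_elt h2 k (uu (t j)) (congrFun hk' j) hcon _ (uu_fix _))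

/-- the permutations -/
def TT (R : Subgroup (Matrix.symplecticGroup (Fin m) F)) : Subgroup (Perm (Fin m)) where
  carrier := {σ | ∃ A, blk σ A ∈ R}
  one_mem' := ⟨1, by rw [blk_one]; exact R.one_mem⟩
  mul_mem' := by
    rintro σ τ ⟨A, hA⟩ ⟨B, hB⟩
    refine ⟨fun j => A (τ j) * B j, ?_⟩
    rw [← blk_mul]
    exact R.mul_mem hA hB
  inv_mem' := by
    rintro σ ⟨A, hA⟩
    refine ⟨fun j => (A (σ⁻¹ j))⁻¹, ?_⟩
    have h1 : blk σ⁻¹ (fun j => (A (σ⁻¹ j))⁻¹) = (blk σ A)⁻¹ := by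
      rw [eq_inv_iff_mul_eq_one, blk_mul, inv_mul_cancel, ← blk_one]
      congr 1
      funext j
      simp
    rw [h1]
    exact R.inv_mem hA

theorem TT_isPGroup {R : Subgroup (Matrix.symplecticGroup (Fin m) F)} (hR : IsPGroup 2 R) : IsPGroup 2 (TT R) := by
  rintro ⟨σ, A, hA⟩
  obtain ⟨k, hk⟩ := hR ⟨_, hA⟩
  refine ⟨k, Subtype.ext ?_⟩
  have h1 : blk σ A ^ 2 ^ k = 1 := congrArg Subtype.val hk
  obtain ⟨B, hB⟩ := blk_pow' σ A (2 ^ k)
  rw [hB, ← blk_one] at h1
  exact (blk_injective h1).1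

/-- **the labels** -/
theorem labels [Finite F] (hq : 3 ≤ Nat.card F) (h2 : (2 : F) ≠ 0) (hm : 2 ≤ m) (T : Subgroup (Perm (Fin m)))
    (hT : IsPGroup 2 T) : ∃ t : Fin m → F, ∀ σ ∈ T, ∀ a : Fin m → F, (∀ j k, j ≠ k → a j * a k = 1) →
      (∀ j, t (σ j) = a j ^ 2 * t j) → σ = 1 ∧ ∀ j, a j * a j = 1 ∧ ∀ k, a j = a k := by
  rcases hm.lt_or_eq with hm3 | hm2
  · obtain ⟨c, hc⟩ := color (α := Fin m) T hT
    obtain ⟨ι⟩ : Nonempty (Fin 3 ↪ F) := by
      have := Fintype.ofFinite F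
      refine Function.Embedding.nonempty_of_card_le ?_
      rw [Fintype.card_fin, ← Nat.card_eq_fintype_card]
      exact hq
    refine ⟨fun j => ι (c j), fun σ hσ a ha ht => ?_⟩
    have h3 : ∀ j k, a j = a k := by
      intro j k
      by_cases hjk : j = k
      · rw [hjk]
      obtain ⟨l, hl1, hl2⟩ : ∃ l : Fin m, l ≠ j ∧ l ≠ k := by
        have h4 : ((Finset.univ : Finset (Fin m)) \ {j, k}).Nonempty := by
          rw [← Finset.card_pos]
          have h5 := Finset.le_card_sdiff ({j, k} : Finset (Fin m)) Finset.univ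
          have h6 : ({j, k} : Finset (Fin m)).card ≤ 2 := Finset.card_le_two
          rw [Finset.card_univ, Fintype.card_fin] at h5
          omega
        obtain ⟨l, hl⟩ := h4
        simp only [Finset.mem_sdiff, Finset.mem_univ, true_and, Finset.mem_insert, Finset.mem_singleton, not_or] at hl
        exact ⟨l, hl.1, hl.2⟩
      have h4 := ha j l hl1.symm
      have h5 := ha k l hl2.symm
      have h6 : a l ≠ 0 := fun h => by rw [h, mul_zero] at h4; exact zero_ne_one h4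
      exact mul_right_cancel₀ h6 (h4.trans h5.symm)
    have h4 : ∀ j, a j * a j = 1 := by
      intro j
      have : Nontrivial (Fin m) := Fin.nontrivial_iff_two_le.2 (by omega)
      obtain ⟨k, hk⟩ := exists_ne j
      have h5 := ha j k hk.symm
      rwa [← h3 j k] at h5
    refine ⟨?_, fun j => ⟨h4 j, h3 j⟩⟩
    have h5 := hc ⟨σ, hσ⟩ (fun j => by
      have h6 := ht j
      rw [pow_two, h4, one_mul] at h6
      exact ι.injective h6)
    exact Equiv.ext h5
  · subst hm2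
    have := Fintype.ofFinite F
    obtain ⟨ν, hν⟩ := FiniteField.exists_nonsquare (F := F) (fun h => h2 (by
      have : ((2 : ℕ) : F) = 0 := by
        rw [← h]
        exact ringChar.Nat.cast_ringChar
      exact_mod_cast this))
    refine ⟨![1, ν], fun σ _ a ha ht => ?_⟩
    have h01 := ha 0 1 (by decide)
    have hσ : σ 0 = 0 := by
      by_contra hcon
      have h3 : σ 0 = 1 := by omega
      have h4 := ht 0
      rw [h3] at h4
      simp only [Matrix.cons_val_one, Matrix.cons_val_zero, mul_one, Matrix.cons_val_fin_one] at h4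
      exact hν ⟨a 0, by rw [h4, pow_two]⟩
    have h3 := ht 0
    rw [hσ] at h3
    simp only [Matrix.cons_val_zero, mul_one] at h3
    have h4 : a 1 = a 0 := by
      have h5 : a 0 ≠ 0 := fun h => by rw [h, zero_mul] at h01; exact zero_ne_one h01
      apply mul_left_cancel₀ h5
      rw [h01, ← pow_two, ← h3]
    have hσ1 : σ 1 = 1 := by
      have h5 : σ 1 ≠ σ 0 := fun h => by
        have := σ.injective h
        exact absurd this (by decide)
      rw [hσ] at h5
      omega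
    refine ⟨?_, ?_⟩
    · ext j
      fin_cases j
      · simp [hσ]
      · simp [hσ1]
    · intro j
      fin_cases j
      · refine ⟨?_, fun k => ?_⟩
        · change a 0 * a 0 = 1
          rw [← pow_two, ← h3]
        · fin_cases k
          · rfl
          · exact h4.symm
      · refine ⟨?_, fun k => ?_⟩
        · change a 1 * a 1 = 1
          rw [h4, ← pow_two, ← h3]
        · fin_cases k
          · exact h4
          · rfl

theorem neg_center : (blk 1 (fun _ => -1) : Matrix.symplecticGroup (Fin m) F) ∈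
    Subgroup.center (Matrix.symplecticGroup (Fin m) F) := by
  rw [Subgroup.mem_center_iff]
  intro g
  apply Subtype.ext
  have h1 : ((blk 1 (fun _ => -1) : Matrix.symplecticGroup (Fin m) F) : Matrix (Fin m ⊕ Fin m) (Fin m ⊕ Fin m) F) =
      -1 := by
    change fromBlocks _ _ _ _ = _
    rw [← Matrix.fromBlocks_one, Matrix.fromBlocks_neg, ← mono_one, Matrix.fromBlocks_inj]
    refine ⟨?_, ?_, ?_, ?_⟩ <;> ext i j <;> by_cases hij : i = j <;> simp only [mono_apply, hij, _root_.Fin.isValue, _root_.Matrix.SpecialLinearGroup.coe_neg, _root_.Matrix.SpecialLinearGroup.coe_one, _root_.Matrix.neg_apply, _root_.Matrix.one_apply_eq, _root_.Equiv.Perm.coe_one, _root_.id_eq, ↓ _root_.reduceIte, _root_.neg_zero, _root_.ne_eq, _root_.zero_ne_one, _root_.not_false_eq_true, _root_.Matrix.one_apply_ne, _root_.Matrix.zero_apply, _root_.one_ne_zero]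
  rw [Submonoid.coe_mul, Submonoid.coe_mul, h1]
  simp

theorem final (h2 : (2 : F) ≠ 0) {y : Matrix.symplecticGroup (Fin m) F} {k : ℕ} (hk : y ^ 2 ^ k = 1)
    (hy : y = blk 1 A) (hA : ∀ j, (A j : Matrix (Fin 2) (Fin 2) F) 1 0 = 0)
    (ha : ∀ j, (A j : Matrix (Fin 2) (Fin 2) F) 0 0 * (A j : Matrix (Fin 2) (Fin 2) F) 0 0 = 1)
    (ha' : ∀ j l, (A j : Matrix (Fin 2) (Fin 2) F) 0 0 = (A l : Matrix (Fin 2) (Fin 2) F) 0 0) :
    y ∈ Subgroup.center (Matrix.symplecticGroup (Fin m) F) := by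
  subst hy
  rw [blk_pow, ← blk_one] at hk
  obtain ⟨-, hk'⟩ := blk_injective hk
  have hv : ∀ j, (A j : Matrix (Fin 2) (Fin 2) F) *ᵥ ![1, 0] = (A j : Matrix (Fin 2) (Fin 2) F) 0 0 • ![1, 0] := by
    intro j
    funext i
    (revert i; simp only [Matrix.mulVec, dotProduct, Fin.sum_univ_two, hA j, _root_.Fin.forall_fin_succ, Fin.isValue, _root_.Matrix.cons_val_zero, _root_.mul_one, _root_.Matrix.cons_val_one, _root_.Matrix.cons_val_fin_one, _root_.MulZeroClass.mul_zero, _root_.add_zero, _root_.Nat.succ_eq_add_one, Nat.reduceAdd, _root_.Pi.smul_apply, _root_.smul_eq_mul, _root_.Matrix.cons_val_succ, _root_.Fin.succ_zero_eq_one, _root_.IsEmpty.forall_iff, _root_.and_self])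
  rcases isEmpty_or_nonempty (Fin m) with hE | ⟨⟨j0⟩⟩
  · have h1 : A = 1 := funext fun j => (hE.false j).elim
    rw [h1, blk_one]
    exact Subgroup.one_mem _
  rcases mul_self_eq_one_iff.1 (ha j0) with h1 | h1
  · have h3 : A = 1 := by
      funext j
      by_contra hcon
      refine e1_ne (two_elt h2 k (A j) (congrFun hk' j) hcon _ ?_)
      rw [hv, ha' j j0, h1, one_smul]
    rw [h3, blk_one]
    exact Subgroup.one_mem _
  · have h3 : A = fun _ => -1 := by
      funext j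
      by_contra hcon
      refine e1_ne (two_elt h2 (k + 1) (-(A j)) ?_ (fun h => hcon (by rw [← h, neg_neg])) _ ?_)
      · have h4 : A j ^ 2 ^ k = 1 := congrFun hk' j
        rw [pow_succ, mul_comm, pow_mul, neg_sq, ← pow_mul, mul_comm 2, pow_mul, h4]
        simp
      · change (-(A j : Matrix (Fin 2) (Fin 2) F)) *ᵥ ![1, 0] = ![1, 0]
        rw [Matrix.neg_mulVec, hv, ha' j j0, h1, neg_smul, one_smul, neg_neg]
    rw [h3]
    exact neg_center

theorem hu [Finite F] (hq : 3 ≤ Nat.card F) (h2 : (2 : F) ≠ 0) (hm : 2 ≤ m)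
    (R : Subgroup (Matrix.symplecticGroup (Fin m) F)) (hR : IsPGroup 2 R)
    (hRD : ∀ y ∈ R, y ∈ HH m F ∧ (tv m F)⁻¹ * y * tv m F ∈ HH m F) :
    ∃ u ∈ NN m F, ∀ y ∈ R, u * y = y * u → y ∈ Subgroup.center (Matrix.symplecticGroup (Fin m) F) := by
  obtain ⟨t, ht⟩ := labels hq h2 hm (TT R) (TT_isPGroup hR)
  refine ⟨blk 1 fun j => uu (t j), ⟨t, rfl⟩, fun y hy huy => ?_⟩
  obtain ⟨hy1, hy2⟩ := hRD y hy
  obtain ⟨σ, A, rfl⟩ := mem_HH.1 hy1
  obtain ⟨h1, h3⟩ := key' hm hy2
  have hdet : ∀ j, (A j : Matrix (Fin 2) (Fin 2) F) 0 0 * (A j : Matrix (Fin 2) (Fin 2) F) 1 1 = 1 := by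
    intro j
    have h4 := det_eq (A j)
    rwa [h1 j, mul_zero, sub_zero] at h4
  rw [blk_mul, blk_mul, one_mul, mul_one] at huy
  obtain ⟨-, h4⟩ := blk_injective huy
  obtain ⟨h5, h6⟩ := ht σ ⟨A, hy⟩ (fun j => (A j : Matrix (Fin 2) (Fin 2) F) 0 0) (fun j k hjk => by
      rw [h3 j k hjk, mul_comm]
      exact hdet k) (fun j => by
      have h5 := congrFun h4 j
      change uu (t (σ j)) * A j = A j * uu (t j) at h5
      have h6 := congrArg Subtype.val h5
      change !![1, t (σ j); 0, 1] * (A j : Matrix (Fin 2) (Fin 2) F) =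
        (A j : Matrix (Fin 2) (Fin 2) F) * !![1, t j; 0, 1] at h6
      have h7 := congrFun (congrFun h6 0) 1
      simp only [Matrix.mul_apply, Fin.sum_univ_two] at h7
      simp only [_root_.Fin.isValue, _root_.Matrix.of_apply, _root_.Matrix.cons_val', _root_.Matrix.cons_val_zero, _root_.Matrix.cons_val_fin_one, _root_.one_mul, _root_.Matrix.cons_val_one, _root_.mul_one] at h7
      have h8 := hdet j
      linear_combination (A j : Matrix (Fin 2) (Fin 2) F) 0 0 * h7 - t (σ j) * h8)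
  obtain ⟨k, hk⟩ := hR ⟨_, hy⟩
  exact final h2 (k := k) (congrArg Subtype.val hk) (by rw [h5]) h1 (fun j => (h6 j).1) (fun j l => (h6 j).2 l)

end lin

/-- **`p = 2`, `PSp_2m(q)`, `q` odd.** -/
theorem meet2_PSp {m : ℕ} {F : Type} [Field F] [Fintype F] (h : Odd (Fintype.card F)) (hm : 2 ≤ m) :
    Cfsg.Agent.H68.MeetB.MeetIn 2 (Cfsg.PSp m F) := by
  have : Fact (Nat.Prime 2) := ⟨Nat.prime_two⟩
  have h2 : (2 : F) ≠ 0 := two_ne h
  have hq : 3 ≤ Nat.card F := by
    rw [Nat.card_eq_fintype_card]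
    have h1 : 1 < Fintype.card F := Fintype.one_lt_card
    obtain ⟨k, hk⟩ := h
    omega
  have hZ : IsPGroup 2 (Subgroup.center (Matrix.symplecticGroup (Fin m) F)) := by
    refine IsPGroup.of_card (n := 1) ?_
    rw [Cfsg.Agent.S0246.result (F := F) rfl m (by omega)]
    obtain ⟨k, hk⟩ := h
    rw [hk, Nat.add_sub_cancel, Nat.gcd_mul_right_right, pow_one]
  have hi : ¬ 2 ∣ (HH m F).index := by
    obtain ⟨Q⟩ : Nonempty (Sylow 2 (_root_.Matrix.SpecialLinearGroup (Fin 2) F)) := inferInstance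
    obtain ⟨T⟩ : Nonempty (Sylow 2 (Equiv.Perm (Fin m))) := inferInstance
    obtain ⟨R, hR⟩ := exists_sylow h m Q T
    intro h1
    refine R.not_dvd_index (h1.trans (Subgroup.index_dvd_of_le ?_))
    rw [hR]
    rintro _ ⟨σ, _, A, _, rfl⟩
    exact mem_HH.2 ⟨σ, A, rfl⟩
  exact of_pair hZ hi (tv m F) hN (fun n hn y hy hy' => hN1 hm n hn y hy hy') (fun n hn k hk => hN2 h2 n hn k hk)
    (hu hq h2 hm)

end Cfsg.Agent.H458.M2Sp
end

-- part: H458/B3/Sp
section
prune_inst 0x1000000022000000180000200000000000000000000800804000000001010220058101000001000000aa4000000020000000000020000000000c000004000010880200b008a000000006000000000000000000000000000000000000000000000000000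
set_option linter.all false
open scoped Cfsg.Agent.FastGrp

-- part: H458/B3/Pair3
section
/-!
# The pair lemma for the rows `Row3 2 T` (helper458, task 2828)

* `core` : `H` of index prime to `p`, `D = H ∩ x H x⁻¹`, `N ≤ D` normalised by `D` without elements of order `p`;
  then there is a `p`-subgroup `R` of `D` such that for all `u ∈ N` two Sylow subgroups meet in `C_R(u)`.
* `row3_of_pair` : the version for `Aut T`, `Out T` commutative.
-/

set_option autoImplicit false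

namespace Cfsg.Agent.H458.B3

open Subgroup Cfsg.Agent.H458.M2 Cfsg.Agent.H233.B3

section core

variable {p : ℕ} [Fact p.Prime] {G : Type*} [Group G] [Finite G]

/-- **The pair lemma**, Sylow form. -/
theorem core {H N : Subgroup G} (hi : ¬ p ∣ H.index) (x : G)
    (hN : ∀ n ∈ N, n ∈ H ∧ x⁻¹ * n * x ∈ H)
    (hN1 : ∀ n ∈ N, ∀ y ∈ H, x⁻¹ * y * x ∈ H → y * n * y⁻¹ ∈ N)
    (hN2 : ∀ n ∈ N, ∀ k, n ^ p ^ k = 1 → n = 1) :
    ∃ R : Subgroup G, IsPGroup p R ∧ (∀ y ∈ R, y ∈ H ∧ x⁻¹ * y * x ∈ H) ∧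
      ∀ u ∈ N, ∃ P P' : Sylow p G, ∀ y, y ∈ P → y ∈ P' → y ∈ R ∧ u * y = y * u := by
  let H' : Subgroup G := H.comap (MulAut.conj x⁻¹).toMonoidHom
  have hH' : ∀ y, y ∈ H' ↔ x⁻¹ * y * x ∈ H := by
    intro y
    rw [mem_comap]
    change x⁻¹ * y * x⁻¹⁻¹ ∈ H ↔ _
    rw [inv_inv]
  have hi' : ¬ p ∣ H'.index := by
    rw [Subgroup.index_comap_of_surjective _ (MulAut.conj x⁻¹).surjective]
    exact hi
  let D : Subgroup G := H ⊓ H'
  have hD : ∀ y, y ∈ D ↔ y ∈ H ∧ x⁻¹ * y * x ∈ H := by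
    intro y
    rw [mem_inf, hH']
  obtain ⟨S⟩ : Nonempty (Sylow p D) := inferInstance
  let R : Subgroup G := (S : Subgroup D).map D.subtype
  have hR : IsPGroup p R := S.isPGroup'.map _
  have hRD : R ≤ D := by
    rintro _ ⟨y, _, rfl⟩
    exact y.2
  -- maximality
  have hmax : ∀ Q : Subgroup G, IsPGroup p Q → R ≤ Q → ∀ y ∈ Q, y ∈ D → y ∈ R := by
    intro Q hQ hRQ y hy hyD
    have h1 : IsPGroup p (Q.subgroupOf D) := hQ.comap_of_injective _ D.subtype_injective
    have h2 : (S : Subgroup D) ≤ Q.subgroupOf D := by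
      intro s hs
      exact hRQ ⟨s, hs, rfl⟩
    have h3 := S.is_maximal' h1 h2
    have h4 : (⟨y, hyD⟩ : D) ∈ Q.subgroupOf D := hy
    rw [h3] at h4
    exact ⟨_, h4, rfl⟩
  refine ⟨R, hR, fun y hy => (hD y).1 (hRD hy), fun u huN => ?_⟩
  have huD : u ∈ D := (hD u).2 (hN u huN)
  obtain ⟨P, hP1, hP2⟩ := exists_sylow_le hi hR (hRD.trans inf_le_left)
  let R' : Subgroup G := R.map (MulAut.conj u).toMonoidHom
  have hR' : IsPGroup p R' := hR.map _
  have hR'D : R' ≤ H' := by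
    rintro _ ⟨y, hy, rfl⟩
    change u * y * u⁻¹ ∈ H'
    exact H'.mul_mem (H'.mul_mem (mem_inf.1 huD).2 (mem_inf.1 (hRD hy)).2) (H'.inv_mem (mem_inf.1 huD).2)
  obtain ⟨P', hP'1, hP'2⟩ := exists_sylow_le hi' hR' hR'D
  refine ⟨P, P', fun y hy hy' => ?_⟩
  have hyD : y ∈ D := mem_inf.2 ⟨hP2 hy, hP'2 hy'⟩
  have h1 : y ∈ R := hmax P P.isPGroup' hP1 y hy hyD
  have h2 : u⁻¹ * y * u ∈ R := by
    refine hmax ((P' : Subgroup G).comap (MulAut.conj u).toMonoidHom)
      (P'.isPGroup'.comap_of_injective _ (MulAut.conj u).injective) ?_ _ ?_ ?_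
    · intro r hr
      rw [mem_comap]
      exact hP'1 ⟨r, hr, rfl⟩
    · rw [mem_comap]
      change u * (u⁻¹ * y * u) * u⁻¹ ∈ (P' : Subgroup G)
      have : u * (u⁻¹ * y * u) * u⁻¹ = y := by group
      rw [this]
      exact hy'
    · exact D.mul_mem (D.mul_mem (D.inv_mem huD) hyD) huD
  have h3 : y⁻¹ * u⁻¹ * y * u ∈ N := by
    have h4 := hN1 u⁻¹ (N.inv_mem huN) y⁻¹ (H.inv_mem ((hD y).1 hyD).1) (by
      have h5 := H.inv_mem ((hD y).1 hyD).2
      have h6 : (x⁻¹ * y * x)⁻¹ = x⁻¹ * y⁻¹ * x := by group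
      rwa [h6] at h5)
    rw [inv_inv] at h4
    exact N.mul_mem h4 huN
  have h4 : y⁻¹ * u⁻¹ * y * u ∈ R := by
    have h5 := R.mul_mem (R.inv_mem h1) h2
    have h6 : y⁻¹ * (u⁻¹ * y * u) = y⁻¹ * u⁻¹ * y * u := by group
    rwa [h6] at h5
  obtain ⟨k, hk⟩ := hR ⟨_, h4⟩
  have h5 : y⁻¹ * u⁻¹ * y * u = 1 := hN2 _ h3 k (congrArg Subtype.val hk)
  refine ⟨h1, ?_⟩
  have h6 : (u * y) * (y⁻¹ * u⁻¹ * y * u) = y * u := by group
  rw [← h6, h5, mul_one]

end core

/-- at most one nontrivial element -/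
theorem card_le_two {G : Type*} [Group G] {D : Subgroup G} (h : ∀ y ∈ D, ∀ y' ∈ D, y ≠ 1 → y' ≠ 1 → y = y') :
    Nat.card D ≤ 2 := by
  classical
  have h1 : Function.Injective (fun y : D => decide ((y : G) = 1)) := by
    intro y y' hyy
    have h2 : (y : G) = 1 ↔ (y' : G) = 1 := by simpa using hyy
    by_cases h3 : (y : G) = 1
    · exact Subtype.ext (h3.trans (h2.1 h3).symm)
    · exact Subtype.ext (h y y.2 y' y'.2 h3 fun h4 => h3 (h2.2 h4))
  have h2 := Nat.card_le_card_of_injective _ h1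
  simpa only [_root_.ge_iff_le, _root_.Nat.card_eq_fintype_card, _root_.Fintype.card_bool] using h2

/-- index of a supplement -/
theorem index_comap_of_supp {A G : Type*} [Group A] [Group G] (ι : A →* G) (H : Subgroup G)
    (h : ∀ g, ∃ a : A, ι a * g ∈ H) : (H.comap ι).index = H.index := by
  let _ : MulAction A (G ⧸ H) := MulAction.compHom _ ι
  have hsm : ∀ (a : A) (g : G), a • (QuotientGroup.mk g : G ⧸ H) = QuotientGroup.mk (ι a * g) := fun _ _ => rfl
  have h1 : MulAction.stabilizer A (QuotientGroup.mk 1 : G ⧸ H) = H.comap ι := by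
    ext a
    rw [MulAction.mem_stabilizer_iff, hsm, mul_one, mem_comap, eq_comm, QuotientGroup.eq, inv_one, one_mul]
  have h2 : MulAction.IsPretransitive A (G ⧸ H) := by
    refine (MulAction.isPretransitive_iff_base (QuotientGroup.mk 1 : G ⧸ H)).2 ?_
    intro y
    obtain ⟨g, rfl⟩ := QuotientGroup.mk_surjective y
    obtain ⟨a, ha⟩ := h g
    refine ⟨a⁻¹, ?_⟩
    rw [hsm, mul_one, map_inv, QuotientGroup.eq, inv_inv]
    exact ha
  rw [← h1, MulAction.index_stabilizer_of_transitive]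
  rfl

/-- **The pair lemma for `Row3`.** -/
theorem row3_of_pair {p : ℕ} {T : Type*} [Group T] [Finite T] [IsSimpleGroup T] (hT : ¬ IsMulCommutative T)
    (hab : ∀ a b : MulAut T, a * b * a⁻¹ * b⁻¹ ∈ (MulAut.conj : T →* MulAut T).range) (hp : p = 2)
    {H N : Subgroup (MulAut T)} (hi : ¬ p ∣ H.index) (x : MulAut T)
    (hN : ∀ n ∈ N, n ∈ H ∧ x⁻¹ * n * x ∈ H)
    (hN1 : ∀ n ∈ N, ∀ y ∈ H, x⁻¹ * y * x ∈ H → y * n * y⁻¹ ∈ N)
    (hN2 : ∀ n ∈ N, ∀ k, n ^ p ^ k = 1 → n = 1)
    (hu : ∀ R : Subgroup (MulAut T), IsPGroup p R → (∀ y ∈ R, y ∈ H ∧ x⁻¹ * y * x ∈ H) →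
      ∃ u ∈ N, ∀ y ∈ R, ∀ y' ∈ R, u * y = y * u → u * y' = y' * u → y ≠ 1 → y' ≠ 1 → y = y') : Row3 p T := by
  subst hp
  have hF : Fact (Nat.Prime 2) := ⟨Nat.prime_two⟩
  obtain ⟨R, hR, hRD, hc⟩ := core hi x hN hN1 hN2
  obtain ⟨u, huN, hu'⟩ := hu R hR hRD
  obtain ⟨P, P', hPP⟩ := hc u huN
  obtain ⟨g, hg⟩ := MulAction.exists_smul_eq (MulAut T) P P'
  have hIn : ((MulAut.conj : T →* MulAut T).range).Normal := ⟨by
    rintro _ ⟨t, rfl⟩ g
    exact ⟨g t, (Cfsg.Agent.H903.SylMeet.conj_apply_aut g t).symm⟩⟩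
  let B : Subgroup (MulAut T) := (MulAut.conj : T →* MulAut T).range ⊔ (P : Subgroup (MulAut T))
  have hIB : (MulAut.conj : T →* MulAut T).range ≤ B := le_sup_left
  have hPB : (P : Subgroup (MulAut T)) ≤ B := le_sup_right
  have hBn : B.Normal := ⟨by
    intro b hb a
    have h1 : a * b * a⁻¹ = (a * b * a⁻¹ * b⁻¹) * b := by group
    rw [h1]
    exact B.mul_mem (hIB (hab a b)) hb⟩
  have h1 := P.normalizer_sup_eq_top' hPB
  have h2 : g ∈ (⊤ : Subgroup (MulAut T)) := mem_top g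
  rw [← h1, sup_comm] at h2
  obtain ⟨b, hb, n, hn, hbn⟩ := mem_sup_of_normal_left.1 h2
  obtain ⟨i, hi', q, hq, hiq⟩ := mem_sup_of_normal_left.1 hb
  obtain ⟨t, rfl⟩ := hi'
  -- `P' = t P t⁻¹`
  have hP' : ∀ y, y ∈ P' → (MulAut.conj t)⁻¹ * y * MulAut.conj t ∈ P := by
    intro y hy
    rw [← hg, ← SetLike.mem_coe, Sylow.coe_smul] at hy
    obtain ⟨z, hz, hzy⟩ := hy
    have h3 : g * z * g⁻¹ = y := by
      rw [← hzy]
      simp only [MulAut.smul_def, MulAut.conj_apply]
    rw [← h3, ← hbn, ← hiq]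
    have h4 : (MulAut.conj t)⁻¹ * (MulAut.conj t * q * n * z * (MulAut.conj t * q * n)⁻¹) * MulAut.conj t =
        q * (n * z * n⁻¹) * q⁻¹ := by group
    rw [h4]
    have h5 : n * z * n⁻¹ ∈ (P : Subgroup (MulAut T)) := (mem_normalizer_iff.1 hn z).1 hz
    exact (P : Subgroup (MulAut T)).mul_mem ((P : Subgroup (MulAut T)).mul_mem hq h5)
      ((P : Subgroup (MulAut T)).inv_mem hq)
  have hP'' : ∀ y, (MulAut.conj t)⁻¹ * y * MulAut.conj t ∈ P → y ∈ P' := by
    intro y hy
    let Q : Subgroup (MulAut T) := (P : Subgroup (MulAut T)).comap (MulAut.conj (MulAut.conj t)⁻¹).toMonoidHom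
    have hQ : IsPGroup 2 Q := P.isPGroup'.comap_of_injective _ (MulAut.conj (MulAut.conj t)⁻¹).injective
    have hle : (P' : Subgroup (MulAut T)) ≤ Q := by
      intro z hz
      rw [mem_comap]
      change (MulAut.conj t)⁻¹ * z * (MulAut.conj t)⁻¹⁻¹ ∈ P
      rw [inv_inv]
      exact hP' z hz
    have h3 := P'.is_maximal' hQ hle
    have h4 : y ∈ Q := by
      rw [mem_comap]
      change (MulAut.conj t)⁻¹ * y * (MulAut.conj t)⁻¹⁻¹ ∈ P
      rw [inv_inv]
      exact hy
    rw [h3] at h4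
    exact h4
  refine row3_of_index (P : Subgroup (MulAut T)) P.isPGroup' P.not_dvd_index ?_
  refine g3_of_two hT P.isPGroup' t⁻¹ (card_le_two ?_)
  intro y hy y' hy' h5 h6
  have key : ∀ z, z ∈ DD (P : Subgroup (MulAut T)) t⁻¹ → z ∈ R ∧ u * z = z * u := by
    intro z hz
    obtain ⟨hz1, hz2⟩ := mem_DD.1 hz
    refine hPP z hz1 (hP'' z ?_)
    rw [map_inv, inv_inv] at hz2
    exact hz2
  obtain ⟨k1, k2⟩ := key y hy
  obtain ⟨k3, k4⟩ := key y' hy'
  exact hu' y k1 y' k3 k2 k4 h5 h6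

end Cfsg.Agent.H458.B3
end

-- part: H458/B3/Sp
section
/-!
# `Row3 2 (PSp m F)` for `|F|` odd, `m ≥ 2` (helper458, task 2828)

The pair lemma in `Aut (PSp)`: `H` = the semisimilitudes permuting the hyperbolic planes, `x` = the transvection
with centre `e_1 + ... + e_m`, `N` = the unipotent radicals of the blocks, `u = (t_j)` with labels `t_j` in
`{0, 1, ζ}`, `F^* = ⟨ζ⟩`.
-/

set_option autoImplicit false
set_option linter.unusedSectionVars false

namespace Cfsg.Agent.H458.B3Sp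

open Matrix Cfsg Cfsg.Agent.H636.SympWreath Cfsg.Agent.H458.M2 Cfsg.Agent.H458.M2Sp Cfsg.Agent.H458.B3
open Cfsg.Agent.ClassicalGeometry.SympBasic Cfsg.Agent.ClassicalGeometry.SympAutSemi
open Cfsg.Agent.ClassicalGeometry.SympGamma

section van

variable {F : Type*} [Field F] {m : ℕ}

/-- `g` maps the complement of the block `j` to the complement of the block `σ j` -/
def Van (g : Equiv.Perm (Fin m ⊕ Fin m → F)) (σ : Equiv.Perm (Fin m)) : Prop :=
  ∀ v j, v (Sum.inl j) = 0 → v (Sum.inr j) = 0 → g v (Sum.inl (σ j)) = 0 ∧ g v (Sum.inr (σ j)) = 0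

theorem Van.mul {g h : Equiv.Perm (Fin m ⊕ Fin m → F)} {σ τ : Equiv.Perm (Fin m)} (hg : Van g σ) (hh : Van h τ) :
    Van (g * h) (σ * τ) := fun v j h1 h2 => hg _ _ (hh v j h1 h2).1 (hh v j h1 h2).2

theorem Van.one : Van (1 : Equiv.Perm (Fin m ⊕ Fin m → F)) 1 := fun _ _ h1 h2 => ⟨h1, h2⟩

theorem Van.pow {g : Equiv.Perm (Fin m ⊕ Fin m → F)} {σ : Equiv.Perm (Fin m)} (hg : Van g σ) (k : ℕ) :
    Van (g ^ k) (σ ^ k) := by
  induction k with
  | zero => exact Van.one
  | succ k ih =>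
    rw [pow_succ, pow_succ]
    exact ih.mul hg

/-- basis vectors -/
def ev (j : Fin m) : Fin m ⊕ Fin m → F := Pi.single (Sum.inl j) 1

/-- basis vectors -/
def fv (j : Fin m) : Fin m ⊕ Fin m → F := Pi.single (Sum.inr j) 1

theorem ev_l (j : Fin m) : (ev j : Fin m ⊕ Fin m → F) (Sum.inl j) = 1 := Pi.single_eq_same _ _
theorem ev_l' {j k : Fin m} (h : k ≠ j) : (ev j : Fin m ⊕ Fin m → F) (Sum.inl k) = 0 :=
  Pi.single_eq_of_ne (fun h1 => h (Sum.inl.inj h1)) _
theorem ev_r (j k : Fin m) : (ev j : Fin m ⊕ Fin m → F) (Sum.inr k) = 0 := Pi.single_eq_of_ne (by simp) _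
theorem fv_r (j : Fin m) : (fv j : Fin m ⊕ Fin m → F) (Sum.inr j) = 1 := Pi.single_eq_same _ _
theorem fv_r' {j k : Fin m} (h : k ≠ j) : (fv j : Fin m ⊕ Fin m → F) (Sum.inr k) = 0 :=
  Pi.single_eq_of_ne (fun h1 => h (Sum.inr.inj h1)) _
theorem fv_l (j k : Fin m) : (fv j : Fin m ⊕ Fin m → F) (Sum.inl k) = 0 := Pi.single_eq_of_ne (by simp) _

theorem Van.off {g : Equiv.Perm (Fin m ⊕ Fin m → F)} {σ : Equiv.Perm (Fin m)} (hg : Van g σ)
    {v : Fin m ⊕ Fin m → F} {j : Fin m} (hv : ∀ k, k ≠ j → v (Sum.inl k) = 0 ∧ v (Sum.inr k) = 0) {i : Fin m}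
    (hi : i ≠ σ j) : g v (Sum.inl i) = 0 ∧ g v (Sum.inr i) = 0 := by
  obtain ⟨k, rfl⟩ := σ.surjective i
  have hk : k ≠ j := fun h => hi (by rw [h])
  exact hg v k (hv k hk).1 (hv k hk).2

theorem ev_off {j : Fin m} (k : Fin m) (h : k ≠ j) :
    (ev j : Fin m ⊕ Fin m → F) (Sum.inl k) = 0 ∧ (ev j : Fin m ⊕ Fin m → F) (Sum.inr k) = 0 := ⟨ev_l' h, ev_r j k⟩

theorem fv_off {j : Fin m} (k : Fin m) (h : k ≠ j) :
    (fv j : Fin m ⊕ Fin m → F) (Sum.inl k) = 0 ∧ (fv j : Fin m ⊕ Fin m → F) (Sum.inr k) = 0 := ⟨fv_l j k, fv_r' h⟩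

theorem Van.unique {g : Equiv.Perm (Fin m ⊕ Fin m → F)} {σ τ : Equiv.Perm (Fin m)} (h0 : g 0 = 0) (hg : Van g σ)
    (hg' : Van g τ) : σ = τ := by
  ext j : 1
  by_contra hne
  have h1 : g (ev j) = 0 := by
    funext i
    rcases i with i | i
    · by_cases h : i = σ j
      · rw [h]
        exact (hg'.off ev_off hne).1
      · exact (hg.off ev_off h).1
    · by_cases h : i = σ j
      · rw [h]
        exact (hg'.off ev_off hne).2
      · exact (hg.off ev_off h).2
  have h2 : (ev j : Fin m ⊕ Fin m → F) = 0 := g.injective (h1.trans h0.symm)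
  have h3 := congrFun h2 (Sum.inl j)
  rw [ev_l] at h3
  exact one_ne_zero h3

theorem semi_zero {g : Equiv.Perm (Fin m ⊕ Fin m → F)} {φ : F ≃+* F} {c : F} (hg : IsSemi g φ c) : g 0 = 0 := by
  have := hg.2.1 0 0
  rwa [map_zero, zero_smul, zero_smul] at this

/-- the shape of the elements of `H ∩ x H x⁻¹` -/
def Dat (g : Equiv.Perm (Fin m ⊕ Fin m → F)) (φ : F ≃+* F) (σ : Equiv.Perm (Fin m)) (a b d : Fin m → F) : Prop :=
  (∀ v j, g v (Sum.inl (σ j)) = a j * φ (v (Sum.inl j)) + b j * φ (v (Sum.inr j))) ∧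
    ∀ v j, g v (Sum.inr (σ j)) = d j * φ (v (Sum.inr j))

theorem expand {g : Equiv.Perm (Fin m ⊕ Fin m → F)} {φ : F ≃+* F} {c : F} (hg : IsSemi g φ c)
    {σ : Equiv.Perm (Fin m)} (hσ : Van g σ) (v : Fin m ⊕ Fin m → F) (j : Fin m) :
    g v (Sum.inl (σ j)) = φ (v (Sum.inl j)) * g (ev j) (Sum.inl (σ j)) + φ (v (Sum.inr j)) * g (fv j) (Sum.inl (σ j)) ∧
    g v (Sum.inr (σ j)) = φ (v (Sum.inl j)) * g (ev j) (Sum.inr (σ j)) +
      φ (v (Sum.inr j)) * g (fv j) (Sum.inr (σ j)) := by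
  set u : Fin m ⊕ Fin m → F := v - v (Sum.inl j) • ev j - v (Sum.inr j) • fv j with hu
  have h1 : v = u + v (Sum.inl j) • ev j + v (Sum.inr j) • fv j := by rw [hu]; abel
  have h2 := hσ u j (by
      rw [hu, Pi.sub_apply, Pi.sub_apply, Pi.smul_apply, Pi.smul_apply, ev_l, fv_l]
      simp) (by
      rw [hu, Pi.sub_apply, Pi.sub_apply, Pi.smul_apply, Pi.smul_apply, ev_r, fv_r]
      simp)
  have h3 : g v = g u + φ (v (Sum.inl j)) • g (ev j) + φ (v (Sum.inr j)) • g (fv j) := by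
    conv_lhs => rw [h1]
    rw [hg.1, hg.1, hg.2.1, hg.2.1]
  rw [h3]
  simp only [Pi.add_apply, Pi.smul_apply, smul_eq_mul, h2.1, h2.2, zero_add, and_self]

theorem data (hm : 2 ≤ m) {g g' : Equiv.Perm (Fin m ⊕ Fin m → F)} {φ : F ≃+* F} {c : F} (hg : IsSemi g φ c)
    (hc : c ≠ 0) {σ τ : Equiv.Perm (Fin m)} (hσ : Van g σ) (hτ : Van g' τ)
    (hx : g * rho m F (tv m F) = rho m F (tv m F) * g') : ∃ a b d : Fin m → F, Dat g φ σ a b d ∧ (∀ j, a j ≠ 0) ∧
      (∀ j, d j ≠ 0) ∧ ∀ j k, j ≠ k → a k = d j := by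
  have hxl : ∀ v i, rho m F (tv m F) v (Sum.inl i) = v (Sum.inl i) + ∑ k, v (Sum.inr k) := by
    intro v i
    rw [rho_apply]
    change (fromBlocks 1 (J1 m F) 0 1 *ᵥ v) (Sum.inl i) = _
    rw [Matrix.fromBlocks_mulVec]
    simp only [J1, Matrix.mulVec, dotProduct, _root_.Matrix.one_mulVec, _root_.Matrix.zero_mulVec, _root_.zero_add, _root_.Sum.elim_inl, _root_.Pi.add_apply, _root_.Function.comp_apply, _root_.Matrix.of_apply, _root_.one_mul]
  have hxr : ∀ v i, rho m F (tv m F) v (Sum.inr i) = v (Sum.inr i) := by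
    intro v i
    rw [rho_apply]
    change (fromBlocks 1 (J1 m F) 0 1 *ᵥ v) (Sum.inr i) = _
    rw [Matrix.fromBlocks_mulVec]
    simp
  have hx' : ∀ v, g (rho m F (tv m F) v) = rho m F (tv m F) (g' v) := fun v => DFunLike.congr_fun hx v
  have hxe : ∀ j, rho m F (tv m F) (ev j) = ev j := by
    intro j
    funext i
    rcases i with i | i
    · rw [hxl]
      simp only [ev_r, _root_.Finset.sum_const_zero, _root_.add_zero]
    · rw [hxr]
  have hnt : Nontrivial (Fin m) := Fin.nontrivial_iff_two_le.2 hm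
  have hge : ∀ j, g (ev j) = rho m F (tv m F) (g' (ev j)) := by
    intro j
    rw [← hx', hxe]
  -- the sum of the second coordinates of `g' (ev j)` is its `τ j` coordinate
  have hsum : ∀ (v : Fin m ⊕ Fin m → F) (j : Fin m), (∀ k, k ≠ j → v (Sum.inl k) = 0 ∧ v (Sum.inr k) = 0) →
      ∑ k, g' v (Sum.inr k) = g' v (Sum.inr (τ j)) := by
    intro v j hv
    rw [Finset.sum_eq_single (τ j)]
    · intro k _ hk
      exact (hτ.off hv hk).2
    · simp
  have hs0 : ∀ j, g' (ev j) (Sum.inr (τ j)) = 0 := by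
    intro j
    by_contra hne
    have h1 : σ j = τ j := by
      by_contra h2
      apply hne
      have h3 := (hσ.off ev_off (Ne.symm h2)).2
      rw [hge, hxr] at h3
      exact h3
    obtain ⟨k, hk⟩ := exists_ne (σ j)
    have h2 := (hσ.off ev_off hk).1
    rw [hge, hxl, hsum _ j ev_off, (hτ.off ev_off (by rw [← h1]; exact hk)).1, zero_add] at h2
    exact hne h2
  have hgg : ∀ j, g (ev j) = g' (ev j) := by
    intro j
    rw [hge]
    funext i
    rcases i with i | i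
    · rw [hxl, hsum _ j ev_off, hs0, add_zero]
    · rw [hxr]
  have hστ : ∀ j, σ j = τ j := by
    intro j
    by_contra hne
    have h1 : g (ev j) = 0 := by
      funext i
      rcases i with i | i
      · by_cases h : i = σ j
        · rw [h, hgg]
          exact (hτ.off ev_off hne).1
        · exact (hσ.off ev_off h).1
      · by_cases h : i = σ j
        · rw [h, hgg]
          exact (hτ.off ev_off hne).2
        · exact (hσ.off ev_off h).2
    have h2 : (ev j : Fin m ⊕ Fin m → F) = 0 := g.injective (h1.trans (semi_zero hg).symm)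
    have h3 := congrFun h2 (Sum.inl j)
    rw [ev_l] at h3
    exact one_ne_zero h3
  have hA' : ∀ j, g (ev j) (Sum.inr (σ j)) = 0 := by
    intro j
    rw [hgg, hστ, hs0]
  -- `g` of the vector `w`
  let w : Fin m ⊕ Fin m → F := Sum.elim (fun _ => 1) (fun _ => 0)
  have hxf : ∀ j, rho m F (tv m F) (fv j) = fv j + w := by
    intro j
    funext i
    rcases i with i | i
    · rw [hxl, Pi.add_apply, Finset.sum_eq_single j]
      · rw [fv_r]
        rfl
      · intro k _ hk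
        exact fv_r' hk
      · simp
    · rw [hxr, Pi.add_apply]
      simp [w]
  have hgw : ∀ k, g w (Sum.inl (σ k)) = g (ev k) (Sum.inl (σ k)) ∧ g w (Sum.inr (σ k)) = 0 := by
    intro k
    obtain ⟨h1, h2⟩ := expand hg hσ w k
    have hw1 : w (Sum.inl k) = 1 := rfl
    have hw2 : w (Sum.inr k) = 0 := rfl
    rw [hw1, hw2, map_one, map_zero, one_mul, zero_mul, add_zero] at h1 h2
    exact ⟨h1, by rw [h2, hA']⟩
  have hf : ∀ j, g (fv j) + g w = rho m F (tv m F) (g' (fv j)) := by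
    intro j
    rw [← hx', hxf, hg.1]
  have hd : ∀ j, g (fv j) (Sum.inr (σ j)) = g' (fv j) (Sum.inr (τ j)) := by
    intro j
    have h1 := congrFun (hf j) (Sum.inr (σ j))
    rw [Pi.add_apply, (hgw j).2, add_zero, hxr] at h1
    rw [h1, hστ]
  have had : ∀ j k, j ≠ k → g (ev k) (Sum.inl (σ k)) = g (fv j) (Sum.inr (σ j)) := by
    intro j k hjk
    have h1 := congrFun (hf j) (Sum.inl (σ k))
    have h2 : σ k ≠ σ j := fun h => hjk (σ.injective h).symm
    rw [Pi.add_apply, (hgw k).1, (hσ.off fv_off h2).1, zero_add, hxl, hsum _ j fv_off,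
      (hτ.off fv_off (by rw [← hστ j]; exact h2)).1, zero_add, ← hd] at h1
    exact h1
  have hprod : ∀ j, g (ev j) (Sum.inl (σ j)) * g (fv j) (Sum.inr (σ j)) = c := by
    intro j
    have h1 := hg.2.2 (ev j) (fv j)
    rw [sympForm_eq_sum, sympForm_eq_sum, Finset.sum_eq_single (σ j), Finset.sum_eq_single j] at h1
    · rw [hA', ev_r, ev_l, fv_r] at h1
      simp only [zero_mul, zero_sub, mul_one, map_neg, map_one] at h1
      linear_combination -h1
    · intro k _ hk
      rw [ev_r, ev_l' hk]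
      ring
    · simp
    · intro k _ hk
      rw [(hσ.off ev_off hk).1, (hσ.off ev_off hk).2]
      ring
    · simp
  refine ⟨fun j => g (ev j) (Sum.inl (σ j)), fun j => g (fv j) (Sum.inl (σ j)), fun j => g (fv j) (Sum.inr (σ j)),
    ⟨fun v j => ?_, fun v j => ?_⟩, fun j h0 => ?_, fun j h0 => ?_, had⟩
  · rw [(expand hg hσ v j).1]
    ring
  · rw [(expand hg hσ v j).2, hA']
    ring
  · apply hc
    rw [← hprod j]
    change g (ev j) (Sum.inl (σ j)) = 0 at h0
    rw [h0, zero_mul]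
  · apply hc
    rw [← hprod j]
    change g (fv j) (Sum.inr (σ j)) = 0 at h0
    rw [h0, mul_zero]

/-- the action of the unipotent elements -/
theorem uu_act (t : Fin m → F) (v : Fin m ⊕ Fin m → F) (i : Fin m) :
    rho m F (blk 1 fun j => uu (t j)) v (Sum.inl i) = v (Sum.inl i) + t i * v (Sum.inr i) ∧
      rho m F (blk 1 fun j => uu (t j)) v (Sum.inr i) = v (Sum.inr i) := by
  rw [rho_apply]
  change (fromBlocks (mono 1 fun j => (1 : F)) (mono 1 fun j => t j) (mono 1 fun j => (0 : F))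
    (mono 1 fun j => (1 : F)) *ᵥ v) (Sum.inl i) = _ ∧ (fromBlocks (mono 1 fun j => (1 : F)) (mono 1 fun j => t j)
      (mono 1 fun j => (0 : F)) (mono 1 fun j => (1 : F)) *ᵥ v) (Sum.inr i) = _
  have h1 : ∀ (s : Fin m → F) (z : Fin m → F), (mono 1 s *ᵥ z) i = s i * z i := by
    intro s z
    rw [Matrix.mulVec, dotProduct, Finset.sum_eq_single i]
    · rw [mono_apply, Equiv.Perm.one_apply, if_pos rfl]
    · intro k _ hk
      rw [mono_apply, Equiv.Perm.one_apply, if_neg (Ne.symm hk), zero_mul]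
    · simp only [_root_.Finset.mem_univ, _root_.not_true_eq_false, _root_.mul_eq_zero, _root_.IsEmpty.forall_iff]
  rw [Matrix.fromBlocks_mulVec]
  simp only [Sum.elim_inl, Sum.elim_inr, Pi.add_apply, h1, one_mul, zero_mul, zero_add, Function.comp_apply, and_self]

theorem Dat.conj {g : Equiv.Perm (Fin m ⊕ Fin m → F)} {φ : F ≃+* F} {σ : Equiv.Perm (Fin m)} {a b d : Fin m → F}
    (h : Dat g φ σ a b d) {t t' : Fin m → F} (ht : ∀ j, t' (σ j) * d j = a j * φ (t j)) :
    g * rho m F (blk 1 fun j => uu (t j)) = rho m F (blk 1 fun j => uu (t' j)) * g := by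
  ext v i
  rw [Equiv.Perm.mul_apply, Equiv.Perm.mul_apply]
  rcases i with i | i
  · obtain ⟨j, rfl⟩ := σ.surjective i
    rw [(uu_act t' _ _).1, h.1, h.1, h.2, (uu_act t v j).1, (uu_act t v j).2, map_add, map_mul]
    linear_combination -(φ (v (Sum.inr j))) * ht j
  · obtain ⟨j, rfl⟩ := σ.surjective i
    rw [(uu_act t' _ _).2, h.2, h.2, (uu_act t v j).2]

end van

section aut

variable {F : Type*} [Field F] {m : ℕ}

theorem isSemi_congr {g : Equiv.Perm (Fin m ⊕ Fin m → F)} {φ ψ : F ≃+* F} {c c' : F} (h : IsSemi g φ c)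
    (h1 : φ = ψ) (h2 : c = c') : IsSemi g ψ c' := by
  rw [← h1, ← h2]
  exact h

/-- isometries induce inner automorphisms -/
theorem mem_inn_one {g : semiSim m F} (h : IsSemi g.1 (RingEquiv.refl F) 1) :
    _root_.Cfsg.Agent.ClassicalGeometry.SympAutSemi.Psi m F g ∈ (MulAut.conj : PSp m F →* MulAut (PSp m F)).range := by
  obtain ⟨A, hA⟩ := exists_rho_eq g.1 h.1 h.2.1 (fun u v => by rw [h.2.2, one_mul]; rfl)
  refine ⟨QuotientGroup.mk A, ?_⟩
  ext x
  obtain ⟨B, rfl⟩ := QuotientGroup.mk_surjective x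
  rw [MulAut.conj_apply, Psi_mk, ← QuotientGroup.mk_mul, ← QuotientGroup.mk_inv, ← QuotientGroup.mk_mul]
  congr 1
  apply rho_injective
  rw [rho_conjHom, map_mul, map_mul, map_inv, hA]

theorem mem_scal (a : Fˣ) : scal m F a ∈ semiSim m F :=
  ⟨_, _, mul_ne_zero a.ne_zero a.ne_zero, isSemi_scal a⟩

/-- similitudes with a square multiplier induce inner automorphisms -/
theorem mem_inn {g : semiSim m F} {l : F} (hl : l ≠ 0) (hs : IsSquare l)
    (h : IsSemi g.1 (RingEquiv.refl F) l) :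
    _root_.Cfsg.Agent.ClassicalGeometry.SympAutSemi.Psi m F g ∈ (MulAut.conj : PSp m F →* MulAut (PSp m F)).range := by
  obtain ⟨c, rfl⟩ := hs
  have hc : c ≠ 0 := by
    rintro rfl
    exact hl (mul_zero _)
  let a : Fˣ := (Units.mk0 c hc)⁻¹
  have ha : (a : F) * c = 1 := by
    change (((Units.mk0 c hc)⁻¹ : Fˣ) : F) * c = 1
    rw [Units.val_inv_eq_inv_val, Units.val_mk0, inv_mul_cancel₀ hc]
  have h1 : _root_.Cfsg.Agent.ClassicalGeometry.SympAutSemi.Psi m F (⟨scal m F a, mem_scal a⟩ * g) = _root_.Cfsg.Agent.ClassicalGeometry.SympAutSemi.Psi m F g := by rw [map_mul, Psi_scal, one_mul]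
  rw [← h1]
  apply mem_inn_one
  refine isSemi_congr ((isSemi_scal (m := m) a).mul h) rfl ?_
  rw [RingEquiv.refl_apply]
  calc (a : F) * a * (c * c) = ((a : F) * c) * (a * c) := by ring
    _ = 1 := by rw [ha, mul_one]

/-- in a finite field the product of two nonsquares is a square -/
theorem isSquare_mul [Finite F] {a b : F} (ha : ¬ IsSquare a) (hb : ¬ IsSquare b) : IsSquare (a * b) := by
  have _i : Fintype F := Fintype.ofFinite F
  classical
  have h2 : ringChar F ≠ 2 := by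
    intro h
    exact ha (FiniteField.isSquare_of_char_two h a)
  have hab : quadraticChar F (a * b) = 1 := by
    rw [map_mul, quadraticChar_neg_one_iff_not_isSquare.2 ha, quadraticChar_neg_one_iff_not_isSquare.2 hb]
    norm_num
  have h0 : a * b ≠ 0 := by
    intro h
    rcases mul_eq_zero.1 h with h | h
    · exact ha (by rw [h]; exact IsSquare.zero)
    · exact hb (by rw [h]; exact IsSquare.zero)
  exact (quadraticChar_one_iff_isSquare h0).1 hab

theorem sq_aut [Finite F] (φ : F ≃+* F) (c : F) : IsSquare (c * φ c) := by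
  by_cases h : IsSquare c
  · obtain ⟨b, rfl⟩ := h
    exact ⟨b * φ b, by rw [map_mul]; ring⟩
  · refine isSquare_mul h fun h1 => h ?_
    obtain ⟨b, hb⟩ := h1
    exact ⟨φ.symm b, by rw [← map_mul, ← hb, RingEquiv.symm_apply_apply]⟩

/-- **`Out (PSp)` is commutative.** -/
theorem comm_mem [Finite F] (hm : 2 ≤ m) (h2 : (2 : F) ≠ 0) (x y : MulAut (PSp m F)) :
    x * y * x⁻¹ * y⁻¹ ∈ (MulAut.conj : PSp m F →* MulAut (PSp m F)).range := by
  have hex : ∀ x : MulAut (PSp m F), ∃ g : semiSim m F, _root_.Cfsg.Agent.ClassicalGeometry.SympAutSemi.Psi m F g = x := fun x =>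
    Cfsg.Agent.ClassicalGeometry.SympAutExists.exists_semi hm x
      (Cfsg.Agent.ClassicalGeometry.SympAutRecog.recog_odd hm h2 x)
  obtain ⟨g, rfl⟩ := hex x
  obtain ⟨h, rfl⟩ := hex y
  rw [← map_mul, ← map_inv, ← map_mul, ← map_inv, ← map_mul]
  obtain ⟨φ, c, hc, hg⟩ := g.2
  obtain ⟨ψ, d, hd, hh⟩ := h.2
  have hcom : φ.trans ψ = ψ.trans φ := by
    have hcyc : IsCyclic (F ≃+* F) := Cfsg.Agent.LieRecognition.FieldSemilinear.isCyclic_ringAut F
    exact (@IsCyclic.commGroup _ _ hcyc).mul_comm ψ φ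
  have h3 := (((hg.mul hh).mul (hg.inv hc)).mul (hh.inv hd))
  have hcom' : ∀ z, ψ (φ z) = φ (ψ z) := fun z => RingEquiv.congr_fun hcom z
  refine mem_inn (l := (c * φ d) * (φ (ψ (φ.symm c⁻¹)) * φ (ψ (φ.symm (ψ.symm d⁻¹))))) ?_ ?_ ?_
  · have e1 : φ d ≠ 0 := by simpa using hd
    have e2 : φ (ψ (φ.symm c⁻¹)) ≠ 0 := by simpa using hc
    have e3 : φ (ψ (φ.symm (ψ.symm d⁻¹))) ≠ 0 := by simpa using hd
    exact mul_ne_zero (mul_ne_zero hc e1) (mul_ne_zero e2 e3)
  · have e1 : φ (ψ (φ.symm c⁻¹)) = ψ c⁻¹ := by rw [← hcom', RingEquiv.apply_symm_apply]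
    have e2 : φ (ψ (φ.symm (ψ.symm d⁻¹))) = d⁻¹ := by
      rw [← hcom', RingEquiv.apply_symm_apply, RingEquiv.apply_symm_apply]
    rw [e1, e2, map_inv₀]
    have h4 := sq_aut ψ c
    have h5 := sq_aut φ d
    obtain ⟨r, hr⟩ := h4
    obtain ⟨s, hs⟩ := h5
    have hψ : ψ c ≠ 0 := by simpa using hc
    refine ⟨r * s * (ψ c)⁻¹ * d⁻¹, ?_⟩
    field_simp
    linear_combination (φ d * d) * hr + r * r * hs
  · refine isSemi_congr h3 ?_ ?_
    · ext z
      change φ (ψ (φ.symm (ψ.symm z))) = z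
      rw [← hcom', RingEquiv.apply_symm_apply, RingEquiv.apply_symm_apply]
    · change c * φ d * φ (ψ (φ.symm c⁻¹)) * φ (ψ (φ.symm (ψ.symm d⁻¹))) = _
      ring

end aut

end Cfsg.Agent.H458.B3Sp
end

private theorem dce_3978a042350f : _root_.True := by
  try have : _root_.True := by simp only [_root_.Cfsg.Agent.H458.M2Sp.J1.eq_1]
  exact _root_.True.intro
end
end
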